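import Groth.Agent.H25Pic0.Surj
import Groth.Agent.H25AbCube.Ample
import Groth.Agent.S12008

/-!
# Classes algebraically equivalent to zero on abelian varieties
-/

set_option autoImplicit false
set_option linter.style.haveILetI false
set_option linter.unusedSectionVars false
set_option backward.isDefEq.respectTransparency false
set_option synthInstance.maxHeartbeats 400000
set_option maxHeartbeats 1000000
universe u

open CategoryTheory CategoryTheory.Limits MonoidalCategory CartesianMonoidalCategory MonObj GrpObj AlgebraicGeometry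
open Groth.Agent Groth.Agent.H25AbCube

noncomputable section

namespace Groth.Agent.H25Pic0

variable {k : Type u} [Field k] [IsAlgClosed k] {A : Over (Spec (CommRingCat.of k))} [GrpObj A] [IsProper A.hom]
  [GeometricallyIntegral A.hom]

theorem transl_iff (L : A.left.Modules) (hL : PicF.IsInvertible L) (a : 𝟙_ (Over (Spec (CommRingCat.of k))) ⟶ A) :
    Nonempty ((Scheme.Modules.pullback ((𝟙 A * (toUnit A ≫ a))).left).obj L ≅ L) ↔ transl (pc L hL) a = pc L hL := by
  rw [← pc_eq_iff (H11Ample.isInvertible_pullback _ hL) hL, pullP_pc _ L hL]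
  rfl

/-- Translation invariant classes are additive. -/
theorem additive_of_invariant (M : A.left.Modules) (hM : PicF.IsInvertible M)
    (h : ∀ a : 𝟙_ (Over (Spec (CommRingCat.of k))) ⟶ A,
      Nonempty ((Scheme.Modules.pullback ((𝟙 A * (toUnit A ≫ a))).left).obj M ≅ M)) : Additive' (pc M hM) :=
  ev_mul_of_invariant _ (fun a => (transl_iff M hM a).1 (h a)) _ _

/-- Classes algebraically equivalent to zero are additive. -/
theorem additive_of_algEquivZero (M : A.left.Modules) (hM : PicF.IsInvertible M)
    (h : Pic13.IsAlgEquivZero k A.left M) : Additive' (pc M hM) := by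
  haveI : IsCommMonObj A := isCommMonObj_of_av
  haveI : Smooth A.hom := by
    haveI : GrpObj (Over.mk A.hom) := inferInstanceAs (GrpObj A)
    exact smooth_of_grpObj A.hom
  exact additive_of_invariant M hM (S12008.result k A M hM h)

/-- Translates of a class minus the class are algebraically equivalent to zero. -/
theorem algEquivZero_phi (ℓ : PC A.left) (x : 𝟙_ (Over (Spec (CommRingCat.of k))) ⟶ A) (N : A.left.Modules)
    (hN : PicF.IsInvertible N) (h : pc N hN = transl ℓ x - ℓ) : Pic13.IsAlgEquivZero k A.left N := by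
  haveI : IsIntegral A.left := GeometricallyIntegral.isIntegral_of_subsingleton A.hom
  let u : PC (A ⊗ A).left := ev ℓ (fst A A * snd A A) - ev ℓ (fst A A)
  obtain ⟨M, hM, hu⟩ := exists_rep u
  have hsl : ∀ (r : 𝟙_ _ ⟶ A), (lift (𝟙 A) (toUnit A ≫ r)).left =
      Pic13.sliceAt k A.left A.hom r.left (Over.w r) := by
    intro r
    apply CategoryTheory.Limits.pullback.hom_ext
    · refine (congrArg (fun w : A ⟶ A => w.left) (lift_fst (𝟙 A) (toUnit A ≫ r))).trans ?_
      exact (CategoryTheory.Limits.pullback.lift_fst _ _ _).symm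
    · refine (congrArg (fun w : A ⟶ A => w.left) (lift_snd (𝟙 A) (toUnit A ≫ r))).trans ?_
      exact (CategoryTheory.Limits.pullback.lift_snd _ _ _).symm
  have hfib : ∀ (r : 𝟙_ _ ⟶ A), pc _ (H11Ample.isInvertible_pullback
      (Pic13.sliceAt k A.left A.hom r.left (Over.w r)) hM) = transl ℓ r - ℓ := fun r => by
    rw [pullP_pc _ M hM, hu, ← hsl r]
    show pullP _ (_ - _) = _
    rw [map_sub]
    show ev (ev ℓ _) _ - ev (ev ℓ _) _ = _
    rw [ev_comp, ev_comp, MonObj.comp_mul, lift_fst, lift_snd, show ev ℓ (𝟙 A) = ℓ from pullP_id _]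
    rfl
  refine ⟨A.left, A.hom, inferInstance, inferInstance, inferInstance, M, hM, x.left,
    (1 : 𝟙_ (Over (Spec (CommRingCat.of k))) ⟶ A).left, Over.w x, Over.w (1 : 𝟙_ _ ⟶ A), ?_, ?_⟩
  · exact (pc_eq_iff (H11Ample.isInvertible_pullback _ hM) hN).1 ((hfib x).trans h.symm)
  · refine (pc_eq_iff (H11Ample.isInvertible_pullback _ hM) H11Ample.isInvertible_structureModule).1
      ((hfib 1).trans ?_)
    rw [pc_one, transl, MonObj.comp_one, _root_.mul_one, show ev ℓ (𝟙 A) = ℓ from pullP_id _, sub_self]

/-- An additive class is a translate of an ample class minus that class. -/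
theorem exists_of_ample (H : A.left.Modules) (hH : CohB1.IsAmple H) (v : PC A.left) (hv : Additive' v) :
    ∃ x : 𝟙_ (Over (Spec (CommRingCat.of k))) ⟶ A, transl (pc H hH.1) x - pc H hH.1 = v :=
  exists_transl_sub_eq H hH.1 (finite_fixing H hH) v hv

/-- Additive classes are algebraically equivalent to zero. -/
theorem algEquivZero_of_additive (M : A.left.Modules) (hM : PicF.IsInvertible M) (h : Additive' (pc M hM)) :
    Pic13.IsAlgEquivZero k A.left M := by
  obtain ⟨H, hH⟩ := exists_isAmple A
  obtain ⟨x, hx⟩ := exists_of_ample H hH _ h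
  exact algEquivZero_phi _ x M hM hx.symm

end Groth.Agent.H25Pic0
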