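import Groth.Agent.H25Pic0.Apps
import Groth.Agent.H25AbCube.TorsionStr
import Groth.Agent.H11Tilde.Local

/-!
# Bookkeeping for classes on abelian varieties
-/

set_option autoImplicit false
set_option linter.style.haveILetI false
set_option linter.unusedSectionVars false
set_option backward.isDefEq.respectTransparency false
set_option synthInstance.maxHeartbeats 400000
set_option maxHeartbeats 1000000
universe u

open CategoryTheory CategoryTheory.Limits MonoidalCategory CartesianMonoidalCategory MonObj GrpObj AlgebraicGeometry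
open Groth.Agent Groth.Agent.H25AbCube

noncomputable section

namespace Groth.Agent.H25Pic0

theorem pc_tensorPow {X : Scheme.{u}} (L : X.Modules) (hL : PicF.IsInvertible L) :
    ∀ n : ℕ, pc (CohB1.tensorPow L n) (H11Ample.isInvertible_tensorPow hL n) = n • pc L hL
  | 0 => by rw [zero_smul]; exact pc_one
  | n + 1 => by
      rw [succ_nsmul, ← pc_tensorPow L hL n]
      exact pc_tensor _ hL _

theorem pc_of_tensor_trivial {X : Scheme.{u}} (L L' : X.Modules) (hL : PicF.IsInvertible L)
    (h : Nonempty (CohB1.tensorMod L L' ≅ Coh.structureModule X)) :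
    ∃ hL' : PicF.IsInvertible L', pc L hL + pc L' hL' = 0 := by
  obtain ⟨N, hN, hNL⟩ := H11Sym.exists_inverse hL
  have hu : H25Theta.cls L * H25Theta.cls L' = 1 :=
    ((H25Theta.cls_tensor L L').symm.trans ((H25Theta.cls_eq).2 h)).trans H25Theta.cls_structureModule
  have hv : H25Theta.cls N * H25Theta.cls L = 1 := Quot.sound hNL
  have hL' : H25Theta.cls N = H25Theta.cls L' := left_inv_eq_right_inv hv hu
  have hLi : PicF.IsInvertible L' := H11Tilde.isInvertible_of_iso ((H25Theta.cls_eq).1 hL').some hN
  refine ⟨hLi, ?_⟩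
  rw [← pc_tensor hL hLi (H11Ample.isInvertible_tensor hL hLi),
    (pc_eq_iff _ H11Ample.isInvertible_structureModule).2 h, pc_one]

variable {k : Type u} [Field k] [IsAlgClosed k] {A B : Over (Spec (CommRingCat.of k))} [GrpObj A] [IsProper A.hom]
  [GeometricallyIntegral A.hom] [GrpObj B] [IsProper B.hom] [GeometricallyIntegral B.hom]

theorem transl_of_additive {u : PC A.left} (hu : Additive' u) (a : 𝟙_ (Over (Spec (CommRingCat.of k))) ⟶ A) :
    transl u a = u := by
  rw [transl, ev_mul hu, ev_toUnit, show ev u (𝟙 A) = u from pullP_id u, add_zero]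

theorem phi_mul (u : PC A.left) (a b : 𝟙_ (Over (Spec (CommRingCat.of k))) ⟶ A) :
    transl u (a * b) - u = (transl u a - u) + (transl u b - u) := by
  rw [eq_sub_of_add_eq (square_transl u a b)]
  abel

theorem phi_pow (u : PC A.left) (a : 𝟙_ (Over (Spec (CommRingCat.of k))) ⟶ A) :
    ∀ n : ℕ, transl u (a ^ n) - u = n • (transl u a - u)
  | 0 => by
      rw [pow_zero, zero_smul, transl, MonObj.comp_one, _root_.mul_one, show ev u (𝟙 A) = u from pullP_id u, sub_self]
  | n + 1 => by rw [pow_succ, phi_mul, phi_pow u a n, succ_nsmul]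

theorem ev_pow {u : PC A.left} (hu : Additive' u) {T : Over (Spec (CommRingCat.of k))} (p : T ⟶ A) :
    ∀ n : ℕ, ev u (p ^ n) = n • ev u p
  | 0 => by
      have h : ev u (1 : T ⟶ A) + ev u 1 = ev u 1 := (ev_mul hu 1 1).symm.trans (by rw [_root_.mul_one])
      rw [pow_zero, zero_smul]
      exact add_eq_left.1 h
  | n + 1 => by rw [pow_succ, ev_mul hu, ev_pow hu p n, succ_nsmul]

theorem transl_pullP (α : A ⟶ B) [IsMonHom α] (h : PC B.left) (x : 𝟙_ (Over (Spec (CommRingCat.of k))) ⟶ A) :
    transl (ev h α) x = ev (transl h (x ≫ α)) α := by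
  rw [transl, transl, ev_comp, ev_comp, MonObj.mul_comp, MonObj.comp_mul, Category.id_comp, Category.comp_id,
    Category.assoc, ← Category.assoc α (toUnit B), comp_toUnit]

end Groth.Agent.H25Pic0
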