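import Groth.Agent.H25AbCube.PoincareRegular

/-!
# Surjective homomorphisms of abelian varieties have quasi-sections
-/

set_option autoImplicit false
set_option linter.style.haveILetI false
set_option linter.unusedSectionVars false
set_option backward.isDefEq.respectTransparency false
set_option synthInstance.maxHeartbeats 400000
set_option maxHeartbeats 1000000
universe u

open CategoryTheory CategoryTheory.Limits MonoidalCategory CartesianMonoidalCategory MonObj GrpObj AlgebraicGeometry
  TopologicalSpace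
open Groth.Agent Groth.Agent.H25AbCube Groth.Agent.H25AbCube.GeomTate

noncomputable section

namespace Groth.Agent.H25Pic0

attribute [local instance] Functor.grpObjObj

variable {k : Type u} [Field k] {A B : Over (Spec (CommRingCat.of k))} [GrpObj A] [IsProper A.hom]
  [GeometricallyIntegral A.hom] [IsCommMonObj A] [GrpObj B] [IsProper B.hom] [GeometricallyIntegral B.hom]
  [IsCommMonObj B]

/-- A surjective homomorphism has a section up to a positive integer. -/
theorem exists_quasi_section (α : A ⟶ B) [IsMonHom α] [Surjective α.left] :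
    ∃ N : ℕ, 0 < N ∧ ∃ gq : B ⟶ A, IsMonHom gq ∧ gq ≫ α = (𝟙 B) ^ N := by
  let Ω := AlgebraicClosure k
  haveI : Smooth A.hom := by
    haveI : GrpObj (Over.mk A.hom) := inferInstanceAs (GrpObj A)
    exact smooth_of_grpObj A.hom
  obtain ⟨N₀, gN, iN, hiN, hiNc, hker⟩ := H19Grp.AffineQuotient.exists_kernel α
  haveI := hiN; haveI := hiNc
  haveI : IsProper N₀.hom := by rw [← Over.w iN]; infer_instance
  obtain ⟨C, gpC, _, _, c, Q, gQ, ρ, hc, hcc, hρ, hQf, hlift⟩ := exists_abelian_part N₀
  haveI := hc; haveI := hcc; haveI := hρ; haveI := hQf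
  haveI : IsCommMonObj C := isCommMonObj_of_av
  let j₀ : C ⟶ A := c ≫ iN
  haveI : IsClosedImmersion j₀.left := by
    show IsClosedImmersion (c.left ≫ iN.left)
    infer_instance
  haveI : Mono j₀ := Over.mono_of_mono_left j₀
  obtain ⟨D, gD, jD, hDp, hDg, hjD, hjDc, hs, hsf⟩ := exists_complement A C j₀
  haveI := hjD; haveI := hjDc; haveI := hDp; haveI := hDg; haveI := hs; haveI := hsf
  haveI : Mono jD := Over.mono_of_mono_left jD
  haveI : IsCommMonObj D := isCommMonObj_of_av
  let σ₁ : C ⊗ D ⟶ A := (fst C D ≫ j₀) * (snd C D ≫ jD)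
  let f : D ⟶ B := jD ≫ α
  haveI : IsMonHom σ₁ := by
    rw [show σ₁ = lift (fst C D ≫ j₀) (snd C D ≫ jD) ≫ μ[A] from rfl]
    infer_instance
  -- the endomorphism is finite on the complement
  haveI : IsFinite f.left := by
    refine isFinite_of_finite_ker f ?_
    haveI : Finite (SGA7.pt Ω ⟶ Q) := finite_pt_hom Q
    have hsk : Set.Finite {x : SGA7.pt Ω ⟶ C ⊗ D | x ≫ σ₁ = 1} := by
      haveI : LocallyQuasiFinite σ₁.left := inferInstanceAs (LocallyQuasiFinite ((fst C D ≫ j₀) * (snd C D ≫ jD)).left)
      obtain ⟨K, gK, i, hi, hic, hk⟩ := H19Grp.AffineQuotient.exists_kernel σ₁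
      haveI := hic
      haveI : IsFinite K.hom := by
        let m : K.left ⟶ pullback σ₁.left (η[A]).left := pullback.lift i.left K.hom
          ((congrArg (·.left) (H19Grp.kernel_comp_eq_one hk)).trans (H19Grp.one_left K))
        haveI : IsClosedImmersion (m ≫ pullback.fst σ₁.left (η[A]).left) := by
          rw [pullback.lift_fst]; infer_instance
        haveI : IsClosedImmersion m := IsClosedImmersion.of_comp m (pullback.fst σ₁.left (η[A]).left)
        rw [show K.hom = m ≫ pullback.snd σ₁.left (η[A]).left from (pullback.lift_snd _ _ _).symm]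
        haveI : IsFinite σ₁.left := hsf
        infer_instance
      haveI : Finite (SGA7.pt Ω ⟶ K) := finite_pt_hom K
      refine (Set.finite_range (fun z : SGA7.pt Ω ⟶ K => z ≫ i)).subset fun x hx => ?_
      exact H19Grp.kernel_lift hk x hx
    have hlift' : ∀ x : SGA7.pt Ω ⟶ D, x ≫ f = 1 → ∃ z : SGA7.pt Ω ⟶ N₀, z ≫ iN = x ≫ jD := fun x hx =>
      H19Grp.kernel_lift hker _ ((Category.assoc x jD α).trans hx)
    choose z hz using hlift'
    haveI : Finite ↥{x : SGA7.pt Ω ⟶ C ⊗ D | x ≫ σ₁ = 1} := hsk.to_subtype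
    refine Set.finite_coe_iff.1 ?_
    -- choose one point in each class modulo the abelian part
    let S := ↥{x : SGA7.pt Ω ⟶ D | x ≫ f = 1}
    let F : S → (SGA7.pt Ω ⟶ Q) := fun x => z x.1 x.2 ≫ ρ
    have hfib : ∀ q, Finite {x : S // F x = q} := by
      intro q
      rcases isEmpty_or_nonempty {x : S // F x = q} with h | ⟨⟨x₀, hx₀⟩⟩
      · infer_instance
      · have hd : ∀ x : {x : S // F x = q}, ∃ y : SGA7.pt Ω ⟶ C, y ≫ j₀ = (x.1.1 / x₀.1) ≫ jD := fun x => by
          obtain ⟨y, hy⟩ := hlift _ (z x.1.1 x.1.2 / z x₀.1 x₀.2) (by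
            rw [GrpObj.div_comp]
            exact div_eq_one.2 (x.2.trans hx₀.symm))
          refine ⟨y, ?_⟩
          show y ≫ c ≫ iN = _
          rw [← Category.assoc, hy, GrpObj.div_comp, GrpObj.div_comp, hz, hz]
        choose y hy using hd
        refine Finite.of_injective (fun x => (⟨lift (y x) (x.1.1 / x₀.1)⁻¹, ?_⟩ :
          ↥{x : SGA7.pt Ω ⟶ C ⊗ D | x ≫ σ₁ = 1})) ?_
        · show _ ≫ σ₁ = 1
          simp only [σ₁, MonObj.comp_mul, lift_fst_assoc, lift_snd_assoc, hy, GrpObj.inv_comp, mul_inv_cancel]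
        · intro a b hab
          have h := congrArg (fun x : ↥{x : SGA7.pt Ω ⟶ C ⊗ D | x ≫ σ₁ = 1} => x.1 ≫ snd C D) hab
          simp only [lift_snd, inv_inj, div_left_inj] at h
          exact Subtype.ext (Subtype.ext h)
    exact Finite.of_equiv _ (Equiv.sigmaFiberEquiv F)
  haveI : Surjective f.left := by
    have hσ : σ₁ ≫ α = snd C D ≫ f := by
      simp only [σ₁, f, MonObj.mul_comp, Category.assoc]
      rw [show j₀ ≫ α = 1 from by simp [j₀, H19Grp.kernel_comp_eq_one hker, MonObj.comp_one], MonObj.comp_one,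
        _root_.one_mul]
    haveI : Surjective σ₁.left := hs
    haveI : Surjective ((snd C D).left ≫ f.left) := by
      rw [← Over.comp_left, ← hσ, Over.comp_left]
      infer_instance
    exact Surjective.of_comp (snd C D).left f.left
  obtain ⟨N, hN, τ, hτ, -, hτs⟩ := exists_isogeny_inverse f
  haveI := hτ
  exact ⟨N, hN, τ ≫ jD, inferInstance, by rw [Category.assoc]; exact hτs⟩

end Groth.Agent.H25Pic0
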