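import Groth.Agent.H25Pic0.Vanishing
import Groth.Agent.H25AbCube.KFinite
import Groth.Agent.H25AbCube.Nondegenerate
import Groth.Agent.H12Pic.PicCurve.Good
import Groth.Agent.H16Derived.KFlat.PerfSummand
import Groth.Agent.H25Par.FiniteSupport
import Groth.Agent.H15Site.LerayDeg
import Groth.Agent.H10Coh.AffineLeray
import Groth.Agent.LeadBC.Grauert
import Groth.Agent.LeadBC.FlatCoh
import Groth.Agent.LeadBC.Chart

/-!
# The translation map of an ample class is onto the invariant classes
-/

set_option autoImplicit false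
set_option linter.style.haveILetI false
set_option linter.unusedSectionVars false
set_option backward.isDefEq.respectTransparency false
set_option synthInstance.maxHeartbeats 400000
set_option maxHeartbeats 2000000
universe u

open CategoryTheory CategoryTheory.Limits MonoidalCategory CartesianMonoidalCategory MonObj GrpObj AlgebraicGeometry
  TopologicalSpace Opposite
open Groth.Agent Groth.Agent.H25AbCube

noncomputable section

attribute [local instance] H10Coh.enoughInjMod

namespace Groth.Agent.H25Pic0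

theorem subsingleton_stalk_of_restrict {X : Scheme.{u}} (M : X.Modules) (U : X.Opens) (h : IsZero (M.restrict U.ι))
    (y : X) (hy : y ∈ U) : Subsingleton (M.presheaf.stalk y) := by
  have key : ∀ (W : X.Opens), W ≤ U → ∀ s : Γ(M, W), s = 0 := fun W hW s => by
    have hid : (𝟙 (M.restrict U.ι)) = 0 := h.eq_of_src _ _
    have h1 : ∀ z : Γ(M.restrict U.ι, U.ι ⁻¹ᵁ W), z = 0 := fun z => by
      have := congr($(congr(Scheme.Modules.Hom.app $hid (U.ι ⁻¹ᵁ W))) z)
      simpa using this
    have e : U.ι ''ᵁ (U.ι ⁻¹ᵁ W) = W := by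
      rw [Scheme.Hom.image_preimage_eq_opensRange_inf, Scheme.Opens.opensRange_ι, inf_eq_right.2 hW]
    haveI : Subsingleton Γ(M.restrict U.ι, U.ι ⁻¹ᵁ W) := ⟨fun a b => (h1 a).trans (h1 b).symm⟩
    haveI : Subsingleton Γ(M, U.ι ''ᵁ (U.ι ⁻¹ᵁ W)) := this
    revert s
    rw [← e]
    exact fun s => Subsingleton.elim _ _
  refine subsingleton_of_forall_eq 0 fun z => ?_
  obtain ⟨V, hyV, s, rfl⟩ := TopCat.Presheaf.germ_exist M.presheaf z
  have := key (V ⊓ U) inf_le_right (M.presheaf.map (homOfLE (inf_le_left : V ⊓ U ≤ V)).op s)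
  rw [← TopCat.Presheaf.germ_res_apply M.presheaf (homOfLE (inf_le_left : V ⊓ U ≤ V)) y ⟨hyV, hy⟩ s, this]
  exact map_zero _

theorem sub_sections_of_flasque {X : Scheme.{u}} (M : X.Modules) (hM : H10Coh.Flasque (H10Coh.sh M))
    (h : Subsingleton Γ(M, ⊤)) (U : X.Opens) : Subsingleton Γ(M, U) := by
  refine subsingleton_of_forall_eq 0 fun s => ?_
  obtain ⟨t, rfl⟩ := hM (le_top : U ≤ ⊤) s
  rw [show t = 0 from Subsingleton.elim (α := Γ(M, ⊤)) _ _]
  exact map_zero _

theorem isZero_of_forall_sections {X : Scheme.{u}} (M : X.Modules) (h : ∀ U, Subsingleton Γ(M, U)) : IsZero M :=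
  (IsZero.iff_id_eq_zero M).2 (Scheme.Modules.hom_ext _ _ fun U =>
    haveI := h U
    ConcreteCategory.hom_ext _ _ fun _ => Subsingleton.elim _ _)

variable {k : Type u} [Field k] {A : Over (Spec (CommRingCat.of k))} [GrpObj A] [IsProper A.hom]
  [GeometricallyIntegral A.hom]

/-- The fibre rank at a rational point is the rank of the cohomology of the slice. -/
theorem fiberRank_slice {P T : Scheme.{u}} (f : P ⟶ T) [IsProper f] [Flat f] [IsLocallyNoetherian T]
    (K : P.Modules) (hK : PicF.IsInvertible K) (g : A.left ⟶ P) (t : Spec (CommRingCat.of k) ⟶ T)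
    (hsq : IsPullback g A.hom f t) {y : T} (hy : t (IsLocalRing.closedPoint k) = y) (i : ℕ) :
    letI : A.left.Over (Spec (CommRingCat.of k)) := ⟨A.hom⟩
    CohIII.fiberRank f K i y = Module.finrank k (Coh.HH A.left ((Scheme.Modules.pullback g).obj K) i) := by
  letI : A.left.Over (Spec (CommRingCat.of k)) := ⟨A.hom⟩
  have hKc := H11Ample.isCoh_of_isInvertible hK
  haveI : K.IsQuasicoherent := hKc.1
  have hfl := H10Coh.SheafHom.isFlatOver_of_isFinLocFree f K (H23Para.isFinLocFree_of_isInvertible hK)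
  obtain ⟨V, hV, hyV, -⟩ := exists_isAffineOpen_mem_and_subset (U := (⊤ : T.Opens)) (x := y) trivial
  obtain ⟨I, hI, U, hU, ⟨m⟩⟩ := LeadBC.exists_chart_model (f := f) (hV := hV) hKc hfl
  exact (m.fiberRank_chart hU hyV i).trans (m.finrank_bc_chart hU (K := k) g t hsq hyV (fun s => by
    rw [show s = IsLocalRing.closedPoint k from Subsingleton.elim (α := PrimeSpectrum k) _ _]; exact hy)
    _ (Iso.refl _) i).symm

variable [IsAlgClosed k]

/-- All higher direct images vanish near a point whose slice has no cohomology. -/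
theorem exists_nhd_isZero {P T : Scheme.{u}} (f : P ⟶ T) [IsProper f] [Flat f] [IsLocallyNoetherian T]
    (K : P.Modules) (hK : PicF.IsInvertible K) (g : A.left ⟶ P) (t : Spec (CommRingCat.of k) ⟶ T)
    (hsq : IsPullback g A.hom f t)
    (hu : Additive' (pc _ (H11Ample.isInvertible_pullback g hK) : PC A.left))
    (hne : pc _ (H11Ample.isInvertible_pullback g hK) ≠ 0) (n : ℕ) :
    ∃ U : T.Opens, t (IsLocalRing.closedPoint k) ∈ U ∧ IsZero (((Coh.Rpush f n).obj K).restrict U.ι) := by
  letI : A.left.Over (Spec (CommRingCat.of k)) := ⟨A.hom⟩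
  haveI : LocallyOfFinitePresentation f := LocallyOfFinitePresentation.iff_locallyOfFiniteType.2 inferInstance
  have hKc := H11Ample.isCoh_of_isInvertible hK
  have hfl := H10Coh.SheafHom.isFlatOver_of_isFinLocFree f K (H23Para.isFinLocFree_of_isInvertible hK)
  refine LeadBC.isZero_near hKc hfl _ n (H12Pic.PicCurve.subsingleton_fiberH_of_fiberRank f hK ?_)
  rw [fiberRank_slice f K hK g t hsq rfl n]
  haveI := subsingleton_HH _ (H11Ample.isInvertible_pullback g hK) hu hne n
  exact Module.finrank_zero_of_subsingleton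

theorem phi_additive (L : PC A.left) (x : 𝟙_ _ ⟶ A) : Additive' (transl L x - L) :=
  ev_mul_of_invariant _ (fun a => phi_invariant L x a) _ _

theorem exists_point (y : A.left) (hy : IsClosed ({y} : Set A.left)) :
    ∃ a : 𝟙_ (Over (Spec (CommRingCat.of k))) ⟶ A, a.left (IsLocalRing.closedPoint k) = y :=
  ⟨Over.homMk _ ((pointEquivClosedPoint A.hom).symm ⟨y, mem_closedPoints_iff.2 hy⟩).2,
    pointOfClosedPoint_apply A.hom y hy _⟩

/-- The fibre of a product over a rational point. -/
theorem isPullback_slice_snd (t : 𝟙_ (Over (Spec (CommRingCat.of k))) ⟶ A) :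
    IsPullback (lift (𝟙 A) (toUnit A ≫ t)).left A.hom (snd A A).left t.left := by
  refine IsPullback.of_right ?_ ?_ (IsPullback.of_hasPullback A.hom A.hom)
  · rw [show (lift (𝟙 A) (toUnit A ≫ t)).left ≫ pullback.fst A.hom A.hom = 𝟙 A.left from
      congrArg (fun w : A ⟶ A => w.left) (lift_fst (𝟙 A) (toUnit A ≫ t))]
    rw [show t.left ≫ A.hom = 𝟙 _ from Over.w t]
    exact IsPullback.id_horiz A.hom
  · exact (congrArg (fun w : A ⟶ A => w.left) (lift_snd (𝟙 A) (toUnit A ≫ t))).trans rfl

/-- The fibre of a product over a rational point. -/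
theorem isPullback_slice_fst (t : 𝟙_ (Over (Spec (CommRingCat.of k))) ⟶ A) :
    IsPullback (lift (toUnit A ≫ t) (𝟙 A)).left A.hom (fst A A).left t.left := by
  refine IsPullback.of_right ?_ ?_ (IsPullback.of_hasPullback A.hom A.hom).flip
  · rw [show (lift (toUnit A ≫ t) (𝟙 A)).left ≫ pullback.snd A.hom A.hom = 𝟙 A.left from
      congrArg (fun w : A ⟶ A => w.left) (lift_snd (toUnit A ≫ t) (𝟙 A))]
    rw [show t.left ≫ A.hom = 𝟙 _ from Over.w t]
    exact IsPullback.id_horiz A.hom
  · exact (congrArg (fun w : A ⟶ A => w.left) (lift_fst (toUnit A ≫ t) (𝟙 A))).trans rfl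

/-- Every additive class is a translate of an ample class minus that class. -/
theorem exists_transl_sub_eq (L : A.left.Modules) (hL : PicF.IsInvertible L)
    (hfin : Set.Finite {a : 𝟙_ (Over (Spec (CommRingCat.of k))) ⟶ A | transl (pc L hL) a = pc L hL})
    (v : PC A.left) (hv : Additive' v) :
    ∃ x : 𝟙_ (Over (Spec (CommRingCat.of k))) ⟶ A, transl (pc L hL) x - pc L hL = v := by
  classical
  letI : A.left.Over (Spec (CommRingCat.of k)) := ⟨A.hom⟩
  haveI : IsIntegral A.left := GeometricallyIntegral.isIntegral_of_subsingleton A.hom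
  haveI : IsLocallyNoetherian A.left := LocallyOfFiniteType.isLocallyNoetherian A.hom
  haveI : JacobsonSpace A.left := LocallyOfFiniteType.jacobsonSpace A.hom
  haveI : CompactSpace A.left := QuasiCompact.compactSpace_of_compactSpace A.hom
  by_contra hcon
  push Not at hcon
  let ℓ := pc L hL
  let κ : PC (A ⊗ A).left := theta ℓ - ev v (fst A A)
  obtain ⟨K, hK, hκ⟩ := exists_rep κ
  haveI : K.IsQuasicoherent := (H11Ample.isCoh_of_isInvertible hK).1
  let p := (fst A A).left
  let q := (snd A A).left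
  haveI : IsProper p := MorphismProperty.pullback_fst (P := @IsProper) A.hom A.hom inferInstance
  haveI : IsProper q := MorphismProperty.pullback_snd (P := @IsProper) A.hom A.hom inferInstance
  haveI : Flat p := MorphismProperty.pullback_fst (P := @Flat) A.hom A.hom inferInstance
  haveI : Flat q := MorphismProperty.pullback_snd (P := @Flat) A.hom A.hom inferInstance
  have hevκ : ∀ (g : A ⟶ A ⊗ A), pc _ (H11Ample.isInvertible_pullback g.left hK) = ev κ g := fun g => by
    rw [pullP_pc _ K hK, hκ]; rfl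
  have hsub : ∀ (a b : A ⟶ A), ev κ (lift a b) = ev ℓ (a * b) - ev ℓ a - ev ℓ b - ev v a := fun a b => by
    show pullP _ (theta ℓ - ev v (fst A A)) = _
    rw [map_sub]
    show ev (theta ℓ) _ - ev (ev v _) _ = _
    rw [ev_theta, ev_comp, lift_fst]
  have hid : ev ℓ (𝟙 A) = ℓ := pullP_id _
  have hq : ∀ y, ev κ (lift (𝟙 A) (toUnit A ≫ y)) = (transl ℓ y - ℓ) - v := fun y => by
    rw [hsub, hid, ev_toUnit, show ev v (𝟙 A) = v from pullP_id v, sub_zero]
    rfl
  have hp : ∀ x, ev κ (lift (toUnit A ≫ x) (𝟙 A)) = transl ℓ x - ℓ := fun x => by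
    haveI : IsCommMonObj A := isCommMonObj_of_av
    rw [hsub, hid, ev_toUnit, ev_toUnit, sub_zero, sub_zero, _root_.mul_comm]
    rfl
  have hqall : ∀ n, IsZero ((Coh.Rpush q n).obj K) := fun n => by
    refine isZero_of_forall_sections _ fun U => subsingleton_of_forall_eq 0 fun s =>
      H25Par.section_eq_zero (H10Coh.sh ((Coh.Rpush q n).obj K)) (fun y _ => ?_) s
    obtain ⟨z, hz, hzy⟩ : ∃ z : A.left, IsClosed ({z} : Set A.left) ∧ y ⤳ z := by
      obtain ⟨z, hz, hzc⟩ := isClosed_closure.exists_closed_singleton (S := closure ({y} : Set A.left))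
        ⟨y, subset_closure rfl⟩
      exact ⟨z, hzc, specializes_iff_mem_closure.2 hz⟩
    obtain ⟨t, ht⟩ := exists_point z hz
    obtain ⟨U, hU, h0⟩ := exists_nhd_isZero q K hK (lift (𝟙 A) (toUnit A ≫ t)).left t.left (isPullback_slice_snd t)
      (by
        rw [hevκ, hq]
        exact ev_mul_of_invariant _ (fun a => by
          rw [show ∀ u w : PC A.left, transl (u - w) a = transl u a - transl w a from fun u w => map_sub _ _ _,
            phi_invariant, show transl v a = v by
              show ev v _ = v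
              rw [ev_mul hv, ev_toUnit, add_zero]; exact pullP_id v]) _ _)
      (by rw [hevκ, hq, ne_eq, sub_eq_zero]; exact hcon t) n
    exact subsingleton_stalk_of_restrict _ U h0 y (hzy.mem_open U.isOpen (ht ▸ hU))
  have hglob : ∀ n, Subsingleton (Coh.HH (A ⊗ A).left K n) := fun n => by
    have hz : ∀ m, IsZero ((Coh.RpushAb q m).obj (Coh.toAb K)) := fun m => by
      obtain ⟨e⟩ := H10Coh.nonempty_toAb_rpush q K m
      exact IsZero.of_iso ((SheafOfModules.toSheaf A.left.ringCatSheaf).map_isZero (hqall m)) e.symm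
    obtain ⟨e⟩ := H15Site.LerayDeg.nonempty_equiv_push q.base (⊤ : Opens A.left) n (Coh.toAb K) fun m => hz (m + 1)
    have hz0 : IsZero ((CohTop.push q.base).obj (Coh.toAb K)) :=
      IsZero.of_iso (hz 0) ((CohTop.push q.base).rightDerivedZeroIsoSelf.app _).symm
    haveI : Subsingleton (H10Coh.Hn ((CohTop.push q.base).obj (Coh.toAb K)) n (⊤ : Opens A.left)) :=
      subsingleton_of_forall_eq 0 fun x => by
        rw [← Abelian.Ext.comp_mk₀_id x, hz0.eq_of_src (𝟙 _) 0, Abelian.Ext.mk₀_zero, Abelian.Ext.comp_zero]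
    haveI : Subsingleton (H10Coh.HnM K n ⊤) := e.toEquiv.subsingleton
    exact (H10Coh.HHEquiv K n).toEquiv.subsingleton
  let F : Set A.left := (fun a : 𝟙_ (Over (Spec (CommRingCat.of k))) ⟶ A => a.left (IsLocalRing.closedPoint k)) ''
    {a | transl ℓ a = ℓ}
  have hF : F.Finite := hfin.image _
  have hFcl : ∀ z ∈ F, IsClosed ({z} : Set A.left) := by
    rintro _ ⟨a, -, rfl⟩
    exact mem_closedPoints_iff.1 (pointEquivClosedPoint A.hom ⟨a.left, Over.w a⟩).2
  have hsupp : ∀ n y, y ∉ F → Subsingleton (((Coh.Rpush p n).obj K).presheaf.stalk y) := fun n y hy => by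
    have hFclosed : IsClosed F := by
      rw [← Set.biUnion_of_singleton F]; exact hF.isClosed_biUnion hFcl
    obtain ⟨z, ⟨hz, hzF⟩, hzc⟩ := nonempty_inter_closedPoints (Z := closure ({y} : Set A.left) ∩ Fᶜ)
      ⟨y, subset_closure rfl, hy⟩ (isClosed_closure.isLocallyClosed.inter hFclosed.isOpen_compl.isLocallyClosed)
    obtain ⟨t, ht⟩ := exists_point z (mem_closedPoints_iff.1 hzc)
    obtain ⟨U, hU, h0⟩ := exists_nhd_isZero p K hK (lift (toUnit A ≫ t) (𝟙 A)).left t.left (isPullback_slice_fst t)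
      (by rw [hevκ, hp]; exact phi_additive ℓ t)
      (by rw [hevκ, hp, ne_eq, sub_eq_zero]; exact fun h => hzF ⟨t, h, ht⟩) n
    exact subsingleton_stalk_of_restrict _ U h0 y ((specializes_iff_mem_closure.2 hz).mem_open U.isOpen (ht ▸ hU))
  have hpall : ∀ n, IsZero ((Coh.Rpush p n).obj K) := fun n => by
    refine isZero_of_forall_sections _ (sub_sections_of_flasque _
      (H25Par.flasque_of_finite_support _ hF hFcl (hsupp n)) ?_)
    obtain ⟨eab⟩ := H10Coh.nonempty_toAb_rpush p K n
    have hac : ∀ a m : ℕ, Subsingleton (H10Coh.Hn ((CohTop.Rpush p.base m).obj (Coh.toAb K)) (a + 1)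
        (⊤ : Opens A.left)) := fun a m => by
      obtain ⟨em⟩ := H10Coh.nonempty_toAb_rpush p K m
      haveI : Subsingleton (H10Coh.Hn (Coh.toAb ((Coh.Rpush p m).obj K)) (a + 1) (⊤ : Opens A.left)) :=
        H10Coh.subsingleton_of_flasque
        (H25Par.flasque_of_finite_support (H10Coh.sh ((Coh.Rpush p m).obj K)) hF hFcl (hsupp m)) a (⊤ : Opens A.left)
      exact subsingleton_of_forall_eq 0 fun x => by
        obtain ⟨y, rfl⟩ : ∃ y, Abelian.Ext.comp y (Abelian.Ext.mk₀ em.hom) (add_zero _) = x :=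
          ⟨x.comp (Abelian.Ext.mk₀ em.inv) (add_zero _), by simp [Abelian.Ext.comp_assoc_of_second_deg_zero]⟩
        rw [Subsingleton.elim y 0, Abelian.Ext.zero_comp]
    obtain ⟨e⟩ := H15Site.LerayDeg.nonempty_equiv_sections p.base (⊤ : Opens A.left) n (Coh.toAb K) hac
    haveI : Subsingleton (H10Coh.HnM K n ⊤) := by
      haveI := hglob n
      exact (H10Coh.HHEquiv K n).symm.toEquiv.subsingleton
    haveI : Subsingleton (H10Coh.Hn (Coh.toAb K) n ((Opens.map p.base).obj (⊤ : Opens A.left))) :=
      ‹Subsingleton (H10Coh.HnM K n ⊤)›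
    haveI : Subsingleton (((sheafToPresheaf (Opens.grothendieckTopology A.left) AddCommGrpCat.{u}).obj
        ((Coh.RpushAb p n).obj (Coh.toAb K))).obj (op (⊤ : Opens A.left))) :=
      e.symm.toEquiv.subsingleton
    exact (((sheafToPresheaf _ _).mapIso eab).app (op ⊤)).addCommGroupIsoToAddEquiv.toEquiv.subsingleton
  have hfl := H10Coh.SheafHom.isFlatOver_of_isFinLocFree p K (H23Para.isFinLocFree_of_isInvertible hK)
  haveI : LocallyOfFinitePresentation p := LocallyOfFinitePresentation.iff_locallyOfFiniteType.2 inferInstance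
  have hconst := LeadBC.fiberRank_eventually_const p (H11Ample.isCoh_of_isInvertible hK) hfl
    (fun i => H16Derived.KFlat.Stalk.isFinLocFree_of_isZero (hpall i)) 0
  have h0 : transl ℓ (1 : 𝟙_ _ ⟶ A) = ℓ := by
    rw [transl, MonObj.comp_one, _root_.mul_one]; exact hid
  let o : 𝟙_ (Over (Spec (CommRingCat.of k))) ⟶ A := 1
  have hpos : CohIII.fiberRank p K 0 (o.left (IsLocalRing.closedPoint k)) ≠ 0 := by
    intro hzero
    replace hzero := (fiberRank_slice p K hK (lift (toUnit A ≫ o) (𝟙 A)).left o.left (isPullback_slice_fst o)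
      (y := o.left (IsLocalRing.closedPoint k)) rfl 0).symm.trans hzero
    let M := (Scheme.Modules.pullback (lift (toUnit A ≫ o) (𝟙 A)).left).obj K
    have hM := H11Ample.isInvertible_pullback (lift (toUnit A ≫ o) (𝟙 A)).left hK
    obtain ⟨φ⟩ : Nonempty (M ≅ Coh.structureModule A.left) :=
      (pc_eq_iff hM H11Ample.isInvertible_structureModule).1 (by rw [hevκ, hp, h0, sub_self, pc_one])
    haveI : M.IsQuasicoherent := (H11Ample.isCoh_of_isInvertible hM).1
    haveI : IsProper (A.left ↘ Spec (CommRingCat.of k)) := ‹IsProper A.hom›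
    haveI := H29RR.isNoetherian_of_proper (k := k) (X := A.left)
    haveI : Module.Finite k (Coh.HH A.left M 0) :=
      H10Coh.finite_HH_proper k A.left M (H11Ample.isCoh_of_isInvertible hM) 0
    haveI := Module.finrank_zero_iff.1 hzero
    haveI : Subsingleton Γ(M, ⊤) := (H10Coh.HH0Equiv M).symm.toEquiv.subsingleton
    have hs : Subsingleton Γ(A.left, ⊤) := by
      refine ⟨fun a b => ?_⟩
      have e : ∀ z, φ.hom.app ⊤ (φ.inv.app ⊤ z) = z := fun z =>
        congr($(congr(Scheme.Modules.Hom.app $(φ.inv_hom_id) ⊤)) z)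
      exact (e a).symm.trans ((congrArg (φ.hom.app ⊤) (Subsingleton.elim _ _)).trans (e b))
    haveI : Nonempty A.left := ⟨o.left (IsLocalRing.closedPoint k)⟩
    exact not_subsingleton Γ(A.left, ⊤) hs
  obtain ⟨y, hyF, hyc⟩ : ∃ y, y ∉ F ∧ IsClosed ({y} : Set A.left) := by
    by_contra hne
    push Not at hne
    have hFclosed : IsClosed F := by
      rw [← Set.biUnion_of_singleton F]; exact hF.isClosed_biUnion hFcl
    have huniv : (Set.univ : Set A.left) ⊆ F := by
      rw [← closure_closedPoints]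
      exact hFclosed.closure_subset_iff.2 fun y hy => by
        by_contra hyF
        exact hne y hyF (mem_closedPoints_iff.1 hy)
    haveI : Subsingleton A.left := ⟨fun a b => by
      have hg : ∀ c : A.left, c = genericPoint A.left := fun c => by
        have := (genericPoint_specializes c).mem_closure
        rwa [(hFcl _ (huniv trivial)).closure_eq, Set.mem_singleton_iff] at this
      rw [hg a, hg b]⟩
    haveI : Nonempty A.left := ⟨genericPoint A.left⟩
    exact hcon 1 (by rw [eq_zero_of_subsingleton v]; exact eq_zero_of_subsingleton _)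
  obtain ⟨t, ht⟩ := exists_point y hyc
  have hzero : CohIII.fiberRank p K 0 y = 0 := by
    rw [fiberRank_slice p K hK (lift (toUnit A ≫ t) (𝟙 A)).left t.left (isPullback_slice_fst t) ht 0]
    haveI := subsingleton_HH _ (H11Ample.isInvertible_pullback (lift (toUnit A ≫ t) (𝟙 A)).left hK)
      (by rw [hevκ, hp]; exact phi_additive ℓ t)
      (by rw [hevκ, hp, ne_eq, sub_eq_zero]; exact fun h => hyF ⟨t, h, ht⟩) 0
    exact Module.finrank_zero_of_subsingleton
  exact hpos ((hconst.apply_eq_of_preconnectedSpace _ y).trans hzero)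

end Groth.Agent.H25Pic0
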