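import Groth.Agent.H25AbCube.SeesawPoints
import Groth.Agent.H25AbCube.HomFG
import Groth.Agent.H25Rig.Rigidity
import Groth.Agent.H10Coh.ProjFormulaFLF
import Groth.Agent.H10Coh.Proper2
import Groth.Agent.H10Coh.FinType2
import Groth.Agent.H8Props.FinLocFree.Sheaf
import Groth.Agent.LeadBC.SectRpush
import Groth.Agent.LeadBC.TrivInv
import Groth.Agent.H4TopDual.Vanish
import Groth.Agent.S0033
import Groth.Agent.H15Site.ClosedPushAb
import Groth.Agent.H23Para.Restrict

/-!
# Cohomology of translation invariant classes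
-/

set_option autoImplicit false
set_option linter.style.haveILetI false
set_option linter.unusedSectionVars false
set_option backward.isDefEq.respectTransparency false
set_option synthInstance.maxHeartbeats 400000
set_option maxHeartbeats 1000000
universe u

open CategoryTheory CategoryTheory.Limits MonoidalCategory CartesianMonoidalCategory MonObj GrpObj AlgebraicGeometry
open Groth.Agent Groth.Agent.H25AbCube

noncomputable section

attribute [local instance] H10Coh.enoughInjMod

namespace Groth.Agent.H25Pic0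

variable {k : Type u} [Field k] {A : Over (Spec (CommRingCat.of k))} [GrpObj A] [IsProper A.hom]
  [GeometricallyIntegral A.hom]

/-- A class additive in the argument. -/
def Additive' (u : PC A.left) : Prop :=
  ev u (fst A A * snd A A) = ev u (fst A A) + ev u (snd A A)

theorem ev_mul {u : PC A.left} (hu : Additive' u) {T : Over (Spec (CommRingCat.of k))} (p q : T ⟶ A) :
    ev u (p * q) = ev u p + ev u q := by
  have h := congrArg (fun v => ev v (lift p q)) hu
  change ev (ev u _) _ = pullP _ (ev u _ + ev u _) at h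
  rw [map_add] at h
  change ev (ev u _) _ = ev (ev u _) _ + ev (ev u _) _ at h
  rwa [ev_comp, ev_comp, ev_comp, MonObj.comp_mul, lift_fst, lift_snd] at h

theorem ev_inv {u : PC A.left} (hu : Additive' u) {T : Over (Spec (CommRingCat.of k))} (p : T ⟶ A) :
    ev u p⁻¹ = - ev u p := by
  have h := ev_mul hu p p⁻¹
  rw [mul_inv_cancel] at h
  have h1 : ev u (1 : T ⟶ A) = 0 := by
    have e := ev_mul hu (1 : T ⟶ A) 1
    rw [_root_.one_mul] at e
    simpa using e
  rw [h1] at h
  exact eq_neg_of_add_eq_zero_right h.symm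

theorem section_eq_zero_of_subsingleton {X : Scheme.{u}} {M : X.Modules} (h : Subsingleton Γ(M, ⊤))
    (f : Coh.structureModule X ⟶ M) : f.app ⊤ = 0 :=
  AddCommGrpCat.hom_ext (AddMonoidHom.ext fun _ => Subsingleton.elim _ _)

/-- Nonzero sections are preserved by an isomorphism of schemes. -/
theorem nontrivial_pullback_iso {X Y : Scheme.{u}} (e : X ⟶ Y) [IsIso e] (M : Y.Modules)
    (h : Nontrivial Γ(M, ⊤)) : Nontrivial Γ((Scheme.Modules.pullback e).obj M, ⊤) := by
  have h1 : Nontrivial Γ(M.restrict e, ⊤) := by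
    show Nontrivial Γ(M, e ''ᵁ ⊤)
    rw [show e ''ᵁ ⊤ = (⊤ : Y.Opens) from TopologicalSpace.Opens.ext (by
      simpa using (Scheme.homeoOfIso (asIso e)).surjective.range_eq)]
    exact h
  let i := (Scheme.Modules.restrictFunctorIsoPullback e).app M
  exact Function.Injective.nontrivial (f := fun s => i.hom.app ⊤ s) fun s t hst => by
    have := congrArg (fun z => i.inv.app ⊤ z) hst
    have e : ∀ z, i.inv.app ⊤ (i.hom.app ⊤ z) = z := fun z =>
      congr($(congr(Scheme.Modules.Hom.app $(i.hom_inv_id) ⊤)) z)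
    simpa only [e] using this

/-- A non trivial additive class has no sections. -/
theorem subsingleton_sections (M : A.left.Modules) (hM : PicF.IsInvertible M) (hu : Additive' (pc M hM))
    (hne : pc M hM ≠ 0) : Subsingleton Γ(M, ⊤) := by
  haveI : IsIntegral A.left := GeometricallyIntegral.isIntegral_of_subsingleton A.hom
  by_contra hcon
  rw [not_subsingleton_iff_nontrivial] at hcon
  let ν : A ⟶ A := (𝟙 A)⁻¹
  haveI : IsIso ν.left := by
    have h : ν ≫ ν = 𝟙 A := by
      show ν ≫ (𝟙 A)⁻¹ = _
      rw [GrpObj.comp_inv, Category.comp_id, _root_.inv_inv]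
    exact ⟨ν.left, congrArg (fun w : A ⟶ A => w.left) h, congrArg (fun w : A ⟶ A => w.left) h⟩
  have hM' := H11Ample.isInvertible_pullback ν.left hM
  have ht : pc (CohB1.tensorMod M ((Scheme.Modules.pullback ν.left).obj M))
      (H11Ample.isInvertible_tensor hM hM') = 0 := by
    rw [pc_tensor hM hM', pullP_pc ν.left M hM]
    show _ + ev _ ν = 0
    rw [ev_inv hu, show ev (pc M hM) (𝟙 A) = pc M hM from pullP_id _, add_neg_cancel]
  rw [← pc_one] at ht
  obtain ⟨e⟩ := (pc_eq_iff _ _).1 ht
  haveI := nontrivial_pullback_iso ν.left M hcon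
  obtain ⟨a, ha⟩ := exists_ne (0 : Γ(M, ⊤))
  obtain ⟨b, hb⟩ := exists_ne (0 : Γ((Scheme.Modules.pullback ν.left).obj M, ⊤))
  obtain ⟨⟨φ⟩, -⟩ := LeadBC.TrivInv.nonempty_iso_of_proper A.hom hM hM' e ha hb
  exact hne (((pc_eq_iff hM _).2 ⟨φ⟩).trans pc_one)

/-- A module over a field with no global sections is zero. -/
theorem isZero_of_sections (R : (Spec (CommRingCat.of k)).Modules) (h : Subsingleton Γ(R, ⊤)) : IsZero R := by
  refine (IsZero.iff_id_eq_zero R).2 (Scheme.Modules.hom_ext _ _ fun U => ?_)
  refine ConcreteCategory.hom_ext _ _ fun s => ?_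
  rcases (U : Set (Spec (CommRingCat.of k))).eq_empty_or_nonempty with hU | ⟨x, hx⟩
  · haveI : Subsingleton Γ(R, U) := by
      rw [show U = ⊥ from TopologicalSpace.Opens.ext hU]
      exact H15Site.ClosedPushAb.subsingleton_sections_bot (Coh.toAb R) rfl
    exact Subsingleton.elim _ _
  · haveI : Subsingleton Γ(R, U) := by
      rw [show U = ⊤ from TopologicalSpace.Opens.ext (Set.eq_univ_of_forall fun y => by
        rwa [show y = x from Subsingleton.elim (α := PrimeSpectrum k) y x])]
      exact h
    exact Subsingleton.elim _ _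

theorem isFinLocFree_over_field (R : (Spec (CommRingCat.of k)).Modules) (hR : Coh.IsCoh R) :
    FlatMod.IsFinLocFree R := by
  haveI : IsNoetherianRing (CommRingCat.of k) := inferInstanceAs (IsNoetherianRing k)
  refine H8Props.FinLocFree.isFinLocFree_of_flat_of_isFP R hR.1 (fun x => ?_) (H10Coh.isFP_of_isCoh R hR)
  haveI : IsDomain (CommRingCat.of k) := inferInstanceAs (IsDomain k)
  obtain rfl : x = genericPoint (Spec (CommRingCat.of k)) := Subsingleton.elim (α := PrimeSpectrum k) _ _
  have hf : IsField ((Spec (CommRingCat.of k)).presheaf.stalk (genericPoint (Spec (CommRingCat.of k)))) :=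
    Field.toIsField (Spec (CommRingCat.of k)).functionField
  letI := hf.toField
  exact Module.Flat.of_free

/-- All cohomology of a non trivial additive class vanishes. -/
theorem subsingleton_HH (M : A.left.Modules) (hM : PicF.IsInvertible M) (hu : Additive' (pc M hM))
    (hne : pc M hM ≠ 0) (i : ℕ) : Subsingleton (Coh.HH A.left M i) := by
  let π := A.hom
  let p := (fst A A).left
  let q := (snd A A).left
  have hMc := H11Ample.isCoh_of_isInvertible hM
  haveI : M.IsQuasicoherent := hMc.1
  haveI : Coh.IsQCoh M := hMc.1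
  let R := (Coh.Rpush π i).obj M
  have hR : FlatMod.IsFinLocFree R := isFinLocFree_over_field R (H10Coh.isCoh_rpush π M hMc i)
  have hsq : IsPullback p q π π := IsPullback.of_hasPullback π π
  let sh : A ⊗ A ≅ A ⊗ A :=
    { hom := lift (fst A A * snd A A) (snd A A)
      inv := lift (fst A A * (snd A A)⁻¹) (snd A A)
      hom_inv_id := CartesianMonoidalCategory.hom_ext _ _
        (by rw [Category.assoc, lift_fst, MonObj.comp_mul, GrpObj.comp_inv, lift_fst, lift_snd, Category.id_comp,
          _root_.mul_assoc, mul_inv_cancel, _root_.mul_one])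
        (by simp)
      inv_hom_id := CartesianMonoidalCategory.hom_ext _ _
        (by rw [Category.assoc, lift_fst, MonObj.comp_mul, lift_fst, lift_snd, Category.id_comp,
          _root_.mul_assoc, inv_mul_cancel, _root_.mul_one])
        (by simp) }
  have hsq' : IsPullback (fst A A * snd A A).left q π π := by
    refine hsq.of_iso ((Over.forget _).mapIso sh.symm) (Iso.refl _) (Iso.refl _) (Iso.refl _) ?_ ?_ (by simp) (by simp)
    · show p ≫ 𝟙 _ = sh.inv.left ≫ _
      rw [Category.comp_id, ← Over.comp_left]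
      refine congrArg (fun w : A ⊗ A ⟶ A => w.left) ?_
      show fst A A = lift (fst A A * (snd A A)⁻¹) (snd A A) ≫ (fst A A * snd A A)
      rw [MonObj.comp_mul, lift_fst, lift_snd, _root_.mul_assoc, inv_mul_cancel, _root_.mul_one]
    · show q ≫ 𝟙 _ = sh.inv.left ≫ q
      rw [Category.comp_id, ← Over.comp_left]
      exact congrArg (fun w : A ⊗ A ⟶ A => w.left) (lift_snd _ _).symm
  obtain ⟨eP⟩ := S0033.result π π p q hsq M i
  obtain ⟨eM⟩ := S0033.result π π (fst A A * snd A A).left q hsq' M i
  have hpM := H11Ample.isInvertible_pullback p hM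
  have hqM := H11Ample.isInvertible_pullback q hM
  have hm := H11Ample.isInvertible_pullback (fst A A * snd A A).left hM
  have hpc : pc _ hm = pc _ (H11Ample.isInvertible_tensor hqM hpM) := by
    rw [pc_tensor hqM hpM, pullP_pc _ M hM, pullP_pc _ M hM, pullP_pc _ M hM]
    exact hu.trans (add_comm _ _)
  obtain ⟨em⟩ := (pc_eq_iff _ _).1 hpc
  obtain ⟨ep⟩ := H10Coh.PF.nonempty_projectionFormula' q ((Scheme.Modules.pullback p).obj M)
    (E := M) (H23Para.isFinLocFree_of_isInvertible hM) i
  let G := (Scheme.Modules.pullback π).obj R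
  have eG : G ≅ CohB1.tensorMod M G :=
    eM ≪≫ (Coh.Rpush q i).mapIso em ≪≫ ep.symm ≪≫ H10Coh.Tw.commIso _ _ ≪≫
      (H10Coh.PF.TR M).mapIso eP.symm ≪≫ H10Coh.Tw.commIso _ _
  haveI : PreservesFiniteLimits (Scheme.Modules.pushforward π) :=
    haveI := (Scheme.Modules.pullbackPushforwardAdjunction π).isRightAdjoint
    inferInstance
  have h0 : Subsingleton Γ(M, ⊤) := subsingleton_sections M hM hu hne
  have hpush : IsZero ((Scheme.Modules.pushforward π).obj M) := isZero_of_sections _ h0
  have hGz : IsZero ((Scheme.Modules.pushforward π).obj G) := by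
    obtain ⟨e₀⟩ := H10Coh.PF.nonempty_projectionFormula' π M (E := R) hR 0
    have z := (Scheme.Modules.pushforward π).rightDerivedZeroIsoSelf
    refine IsZero.of_iso ((H10Coh.PF.TR R).map_isZero (IsZero.of_iso hpush (z.app M))) ?_
    exact (Scheme.Modules.pushforward π).mapIso (eG ≪≫ H10Coh.Tw.commIso _ _) ≪≫ (z.app _).symm ≪≫ e₀.symm ≪≫
      H10Coh.Tw.commIso _ _
  let adj := Scheme.Modules.pullbackPushforwardAdjunction π
  have hG0 : IsZero G := by
    rw [IsZero.iff_id_eq_zero, ← adj.left_triangle_components R,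
      show adj.unit.app R = 0 from hGz.eq_of_tgt _ _, Functor.map_zero, zero_comp]
  have hR0 : IsZero R := by
    have e : (Scheme.Modules.pullback η[A].left).obj G ≅ R :=
      (Scheme.Modules.pullbackComp η[A].left π).app R ≪≫
        (Scheme.Modules.pullbackCongr (show η[A].left ≫ π = 𝟙 _ from Over.w η[A])).app R ≪≫
          (Scheme.Modules.pullbackId _).app R
    exact IsZero.of_iso ((Scheme.Modules.pullback η[A].left).map_isZero hG0) e.symm
  obtain ⟨e, -⟩ := LeadBC.exists_rpushEquiv π (isAffineOpen_top (Spec (CommRingCat.of k))) M i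
  refine H4TopDual.subsingleton_HH_of_restrict_top M i (π ⁻¹ᵁ ⊤) rfl (e.toEquiv.subsingleton_congr.2 ?_)
  refine ⟨fun a b => ?_⟩
  have hid : (𝟙 R : R ⟶ R) = 0 := hR0.eq_of_src _ _
  have key : ∀ z : Γ(R, ⊤), z = 0 := fun z => by
    have := congr($(congr(Scheme.Modules.Hom.app $hid ⊤)) z)
    simpa using this
  rw [key a, key b]

end Groth.Agent.H25Pic0
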